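import Cfsg.Agent.E7P.A1.FinC

/-!
# S5932, task A1: the finite check (helper24)
-/

set_option autoImplicit false
set_option Elab.async false
set_option maxRecDepth 100000

namespace Cfsg.Agent.E7P.A1

open Cfsg Cfsg.Lie Cfsg.Agent.E7P.Kf
open Cfsg.Agent.ChevalleyStructure.RootVec (rt)

namespace Fn

theorem allTo_of {F : ℕ → Bool} {n : ℕ} (h : ∀ k < n, F k = true) : allTo F n = true := by
  induction n with
  | zero => rfl
  | succ n ih =>
    change (F n && allTo F n) = true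
    rw [h n n.lt_succ_self, ih fun k hk => h k (hk.trans n.lt_succ_self)]
    rfl

theorem go_cons {m : ℕ} {fin : List ℕ → ℕ → ℕ → Bool} {w : ℕ} {ws as : List ℕ} {T : ℕ} {l : List (ℕ × ℕ)}
    (h : ∀ a < m + 1, stp1 a (go m fin ws (a :: as) (T + w * a)) l = true) : go m fin (w :: ws) as T l = true := by
  refine allTo_of (n := m + 1) (F := fun a => frc (T + w * a) fun T' => cond (Nat.blt (T' + m * ws.sum) (9 * m)) true
    (stp1 a (go m fin ws (a :: as) T') l)) fun a ha => ?_
  rw [frc_eq, h a ha]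
  cases Nat.blt (T + w * a + m * ws.sum) (9 * m) <;> rfl

theorem go4_0 : stp1 0 (go 4 (fin 4) [2, 3, 4, 3, 2, 2] [0] 0) L0 = true := by decide +kernel

theorem go4_1 : stp1 1 (go 4 (fin 4) [2, 3, 4, 3, 2, 2] [1] 1) L0 = true := by decide +kernel

theorem go4_2 : stp1 2 (go 4 (fin 4) [2, 3, 4, 3, 2, 2] [2] 2) L0 = true := by decide +kernel

theorem go4_3 : stp1 3 (go 4 (fin 4) [2, 3, 4, 3, 2, 2] [3] 3) L0 = true := by decide +kernel

theorem go4_4 : stp1 4 (go 4 (fin 4) [2, 3, 4, 3, 2, 2] [4] 4) L0 = true := by decide +kernel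

theorem go4 : go 4 (fin 4) [1, 2, 3, 4, 3, 2, 2] [] 0 L0 = true := by
  refine go_cons fun a ha => ?_
  rw [zero_add, one_mul]
  interval_cases a
  exacts [go4_0, go4_1, go4_2, go4_3, go4_4]

end Fn

end Cfsg.Agent.E7P.A1
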