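import Cfsg.Agent.E7P.A1.FinD
import Cfsg.Agent.E7P.A1.FinE

/-!
# S5932, task A1: the finite check (helper24)
-/

set_option autoImplicit false
set_option Elab.async false
set_option maxRecDepth 100000

namespace Cfsg.Agent.E7P.A1

open Cfsg Cfsg.Lie Cfsg.Agent.E7P.Kf
open Cfsg.Agent.ChevalleyStructure.RootVec (rt)

namespace Fn

/-- the labels -/
def fw (a : Fin 7 → ℕ) : List ℕ := [a 0, a 1, a 2, a 3, a 4, a 5, a 6]

theorem fw_reverse (a : Fin 7 → ℕ) : (fw a).reverse = rv a := rfl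

theorem tp_fw (a : Fin 7 → ℕ) : tp (fw a) = top a := by
  change 2 * a 0 + (2 * a 1 + (3 * a 2 + (4 * a 3 + (3 * a 4 + (2 * a 5 + (1 * a 6 + 0)))))) =
    2 * a 0 + 2 * a 1 + 3 * a 2 + 4 * a 3 + 3 * a 4 + 2 * a 5 + a 6
  omega

theorem nrN_fw (a : Fin 7 → ℕ) : nrN (fw a) = nrm a := by
  refine congrArg nrm (funext fun j => ?_)
  fin_cases j <;> rfl

theorem fin_fw {m : ℕ} (hm : m = 3 ∨ m = 4) (a : Fin 7 → ℕ) (ha : ∀ j, a j ≤ m) (h : 9 * m ≤ top a) :
    fin m (fw a) (top a) (val L0 (rv a)) = true := by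
  have h0 : go m (fin m) [1, 2, 3, 4, 3, 2, 2] [] 0 L0 = true := by
    rcases hm with rfl | rfl
    · exact go3
    · exact go4
  have h1 : 0 + (List.zipWith (· * ·) [1, 2, 3, 4, 3, 2, 2] (rv a)).sum = top a := by
    change 0 + (1 * a 6 + (2 * a 5 + (3 * a 4 + (4 * a 3 + (3 * a 2 + (2 * a 1 + (2 * a 0 + 0))))))) =
      2 * a 0 + 2 * a 1 + 3 * a 2 + 4 * a 3 + 3 * a 4 + 2 * a 5 + a 6
    omega
  have h2 := (go_spec _ _ _ _ h0 (rv a) rfl fun b hb => by
    simp only [rv, List.mem_cons, List.not_mem_nil, or_false] at hb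
    rcases hb with rfl | rfl | rfl | rfl | rfl | rfl | rfl <;> exact ha _).2 (h1.symm ▸ h)
  rw [h1] at h2
  exact h2

theorem sv_absurd {s : Sv} (hs : s.ok = true) {a : Fin 7 → ℕ} (ha : s.as = fw a) {P0 P1 : chevE7.Idx → Prop}
    (hm : 0 < s.m) (hp : 1 < s.p) (h1 : ∀ i, P1 i → il a i = s.m) (h2 : ∀ i, P0 (Sum.inl i))
    (h3 : ∀ r s t, ac r = ac s + ac t → P1 r → P1 s → P0 t)
    (h4 : cnt P0 ≤ cnt P1 + cnt (fun i => il a i = -(((s.p - 1) * s.m : ℕ) : ℤ))) (h5 : 7 ≤ cnt P1)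
    (h6 : ∀ ζ : Fin 7 → ℤ, (∀ r : Fin chevE7.nroots, P1 (Sum.inr r) → pz r ζ = 0) → ζ = 0) : False := by
  classical
  rw [Sv.ok, ha, fw_reverse, tp_fw, Bool.and_eq_true, Bool.and_eq_true, Bool.and_eq_true, Bool.and_eq_true,
    frc_eq] at hs
  obtain ⟨⟨⟨⟨k1, k2⟩, k3⟩, k4⟩, k5⟩ := hs
  let Q : ℕ → Bool := fun r => decide (∃ h : r + 63 < 126, P1 (Sum.inr ⟨r + 63, h⟩))
  obtain ⟨M, k6, k7⟩ := allSub_spec Q _ _ _ k5
  have k8 : ∀ x, M.testBit x = true ↔ x ∈ s.L ∧ ∃ h : x + 63 < 126, P1 (Sum.inr ⟨x + 63, h⟩) := fun x => by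
    rw [k7, Nat.zero_testBit, List.mem_filter]
    simp only [Bool.false_eq_true, false_or, Q, decide_eq_true_eq]
  have k0 : ∀ (r : Fin 126) (x : ℕ) (e : x + 63 = r), P1 (Sum.inr r) → P1 (Sum.inr ⟨x + 63, e ▸ r.2⟩) := by
    rintro ⟨r, hr⟩ x e h
    obtain rfl : x + 63 = r := e
    exact h
  have k9 : ∀ r : Fin 126, P1 (Sum.inr r) → ∃ x ∈ s.L, x + 63 = r := fun r hr => by
    have e1 := allTo_spec k1 r r.2
    have e2 := ex_key a r
    have e3 := h1 _ hr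
    rw [show Nat.beq (ex (key r) (rv a)) (top a + s.m) = true from Nat.beq_eq.mpr (by omega), Bool.not_true,
      Bool.false_or, List.contains_iff_mem, List.mem_map] at e1
    exact e1
  have c1 : cnt P1 ≤ (s.L.filter Q).length := by
    rw [← List.length_map (f := (· + 63))]
    refine cnt_le (fun i hi => ?_) fun r hr => ?_
    · have : (0 : ℤ) = s.m := h1 _ hi
      omega
    · obtain ⟨x, hx, e⟩ := k9 r hr
      refine List.mem_map.2 ⟨x, List.mem_filter.2 ⟨hx, decide_eq_true ⟨e ▸ r.2, ?_⟩⟩, e⟩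
      exact k0 r x e hr
  have c2 : cnt (fun i => il a i = -(((s.p - 1) * s.m : ℕ) : ℤ)) ≤ s.sl.length := by
    have e0 : 0 < (s.p - 1) * s.m := Nat.mul_pos (by omega) hm
    refine cnt_le (fun i hi => ?_) fun r hr => ?_
    · have : (0 : ℤ) = -(((s.p - 1) * s.m : ℕ) : ℤ) := hi
      omega
    · have e2 := ex_key a r
      refine List.mem_filter.2 ⟨List.mem_range.2 r.2, ?_⟩
      rw [ha, fw_reverse, tp_fw]
      exact Nat.beq_eq.mpr (by omega)
  have c3 : 7 + (s.df M).length ≤ cnt P0 := by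
    rw [← List.length_map (f := Prod.fst)]
    refine le_cnt ((of_decide_eq_true k2).sublist (List.filter_sublist.map _)) h2 fun t ht => ?_
    obtain ⟨x, hx, rfl⟩ := List.mem_map.1 ht
    obtain ⟨e1, e2⟩ := List.mem_filter.1 hx
    obtain ⟨y, e3, e4⟩ := List.any_eq_true.1 e2
    have e5 := List.all_eq_true.1 k3 x e1
    rw [Bool.and_eq_true] at e4 e5
    have e6 := List.all_eq_true.1 e5.2 y e3
    rw [Bool.and_eq_true] at e6
    obtain ⟨-, f1, f2⟩ := (k8 _).1 e4.1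
    obtain ⟨-, f3, f4⟩ := (k8 _).1 e4.2
    have f5 : x.1 < 126 := Nat.blt_eq.mp e5.1
    refine ⟨f5, h3 _ _ _ ?_ f2 f4⟩
    exact rc_add_of_rt f5 f3 f1 fun j hj => eq_of_beq (allTo_spec e6.2 j hj)
  rw [zero_add, Bool.or_eq_true, Bool.or_eq_true, Nat.blt_eq, Nat.blt_eq] at k6
  rcases k6 with (k6 | k6) | k6
  · omega
  · omega
  · obtain ⟨z, e1, e2⟩ := List.any_eq_true.1 k6
    obtain ⟨j, hj, e3⟩ := anyTo_spec (List.all_eq_true.1 k4 z e1)
    have e4 := h6 (fun j => z.getD j 0) fun r hr => by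
      obtain ⟨x, hx, e⟩ := k9 r hr
      have e5 := List.all_eq_true.1 e2 x hx
      rw [(k8 x).2 ⟨hx, e ▸ r.2, k0 r x e hr⟩, Bool.not_true, Bool.false_or, e] at e5
      exact eq_of_beq e5
    exact (bne_iff_ne.1 e3) (congrFun e4 ⟨j, hj⟩)

end Fn

open Fn in
/-- **the finite check** -/
theorem fin : FIN := by
  intro p m a P0 P1 hp hm ha t1 t2 h0 h1 h2 h3 h4 h5 h6
  have t0 : 9 * m ≤ top a := (Nat.mul_le_mul_right m (by omega)).trans t1
  have k := fin_fw hm a ha t0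
  rw [Fn.fin, frc_eq, Bool.or_eq_true] at k
  have hd := dg_val a
  rcases k with k | k
  · obtain ⟨d, hd1, hd2⟩ := anyTo_spec k
    have e1 := Nat.blt_eq.mp hd2
    have e2 := h0 ((d : ℤ) - top a) (by omega)
    have e3 := hd d
    have e4 := hd (d + m)
    rw [show ((d + m : ℕ) : ℤ) - top a = (d : ℤ) - top a + m by push_cast; ring] at e4
    exact absurd (e4 ▸ e3 ▸ e1 :) (not_lt.2 e2)
  · have k1 := List.all_eq_true.1 k p (by simp only [List.mem_cons, List.not_mem_nil, or_false]; exact hp)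
    rw [Bool.or_eq_true, Bool.or_eq_true, Bool.or_eq_true, Bool.or_eq_true, Nat.blt_eq, Nat.blt_eq, Nat.blt_eq,
      Bool.and_eq_true] at k1
    rcases k1 with (((k1 | k1) | k1) | k1) | k1
    · omega
    · omega
    · refine ⟨Nat.eq_of_beq_eq_true k1.1, fun hdv => bne_iff_ne.1 k1.2 ?_⟩
      rw [nrN_fw]
      exact Int.emod_eq_zero_of_dvd hdv
    · have e4 := hd (top a + m)
      rw [show ((top a + m : ℕ) : ℤ) - top a = m by push_cast; ring] at e4
      have e5 : cnt P1 ≤ cnt fun i => il a i = m := cnt_mono h1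
      exact absurd (e4 ▸ k1 :) (not_lt.2 (h5.trans e5))
    · obtain ⟨s, hs, e⟩ := List.any_eq_true.1 k1
      rw [Bool.and_eq_true, Bool.and_eq_true] at e
      have e1 := Nat.eq_of_beq_eq_true e.1.1
      have e2 := Nat.eq_of_beq_eq_true e.1.2
      subst e1 e2
      exact (sv_absurd (List.all_eq_true.1 sv_ok s hs) (eq_of_beq e.2) (by omega) (by omega) h1 h2 h3 h4 h5 h6).elim

end Cfsg.Agent.E7P.A1
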