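import Cfsg.Agent.E7P.A1.Iface

/-!
# S5932, task A1: the finite check (helper24)
-/

set_option autoImplicit false
set_option Elab.async false
set_option maxRecDepth 100000

namespace Cfsg.Agent.E7P.A1

open Cfsg Cfsg.Lie Cfsg.Agent.E7P.Kf
open Cfsg.Agent.ChevalleyStructure.RootVec (rt)

namespace Fn

/-! ### histograms -/

/-- force the evaluation -/
noncomputable def frc (n : ℕ) (f : ℕ → Bool) : Bool := Nat.rec (f 0) (fun k _ => f k.succ) n

theorem frc_eq (n : ℕ) (f : ℕ → Bool) : frc n f = f n := by cases n <;> rfl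

/-- for all `k < n` -/
noncomputable def allTo (F : ℕ → Bool) (n : ℕ) : Bool := Nat.rec true (fun k ih => F k && ih) n

theorem allTo_spec {F : ℕ → Bool} {n : ℕ} (h : allTo F n = true) : ∀ k < n, F k = true := by
  induction n with
  | zero => exact fun k hk => absurd hk (Nat.not_lt_zero k)
  | succ n ih =>
    have h1 : (F n && allTo F n) = true := h
    rw [Bool.and_eq_true] at h1
    intro k hk
    rcases Nat.lt_succ_iff_lt_or_eq.1 hk with h2 | rfl
    · exact ih h1.2 k h2
    · exact h1.1

/-- for some `k < n` -/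
noncomputable def anyTo (F : ℕ → Bool) (n : ℕ) : Bool := Nat.rec false (fun k ih => F k || ih) n

theorem anyTo_spec {F : ℕ → Bool} {n : ℕ} (h : anyTo F n = true) : ∃ k < n, F k = true := by
  induction n with
  | zero => cases h
  | succ n ih =>
    have h1 : (F n || anyTo F n) = true := h
    rw [Bool.or_eq_true] at h1
    rcases h1 with h1 | h1
    · exact ⟨n, n.lt_succ_self, h1⟩
    · obtain ⟨k, h2, h3⟩ := ih h1
      exact ⟨k, h2.trans n.lt_succ_self, h3⟩

/-- the value of a coded root on the labels, last label first -/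
def ex : ℕ → List ℕ → ℕ
  | _, [] => 0
  | k, a :: as => k % 16 * a + ex (k / 16) as

theorem ex_realised : True := by have := @ex.eq_def; trivial

/-- the histogram -/
def val (l : List (ℕ × ℕ)) (as : List ℕ) : ℕ := (l.map fun x => x.2 * 257 ^ ex x.1 as).sum

theorem val_cons (x : ℕ × ℕ) (l : List (ℕ × ℕ)) (as : List ℕ) : val (x :: l) as = x.2 * 257 ^ ex x.1 as + val l as := rfl

/-- shift (an odd base: the kernel hashes the low bits) -/
def sh (H e : ℕ) : ℕ := Nat.mul H (Nat.pow 257 e)

theorem shl (H e : ℕ) : sh H e = H * 257 ^ e := rfl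

/-- substitute one label and merge -/
noncomputable def stp (a : ℕ) (f : List (ℕ × ℕ) → Bool) (l : List (ℕ × ℕ)) : ℕ → ℕ → List (ℕ × ℕ) → Bool :=
  List.rec (fun k H acc => f ((k, H) :: acc)) (fun x _ ih k H acc => frc (Nat.div x.1 16) fun k' =>
    frc (sh x.2 (Nat.mul (Nat.mod x.1 16) a)) fun H' =>
      cond (Nat.beq k' k) (frc (Nat.add H H') fun H2 => ih k H2 acc) (ih k' H' ((k, H) :: acc))) l

theorem stp_spec {a : ℕ} {f : List (ℕ × ℕ) → Bool} (l : List (ℕ × ℕ)) : ∀ k H acc, stp a f l k H acc = true →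
    ∃ l', f l' = true ∧ ∀ as, val l' as = val l (a :: as) + H * 257 ^ ex k as + val acc as := by
  induction l with
  | nil => exact fun k H acc h => ⟨_, h, fun as => by rw [val_cons, show val [] (a :: as) = 0 from rfl, zero_add]⟩
  | cons x l ih =>
    intro k H acc h
    have h1 : (frc (x.1 / 16) fun k' => frc (sh x.2 (x.1 % 16 * a)) fun H' => cond (Nat.beq k' k)
      (frc (H + H') fun H2 => stp a f l k H2 acc) (stp a f l k' H' ((k, H) :: acc))) = true := h
    rw [frc_eq, frc_eq, frc_eq, shl] at h1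
    cases e : Nat.beq (x.1 / 16) k <;> rw [e] at h1
    · obtain ⟨l', h2, h3⟩ := ih _ _ _ h1
      refine ⟨l', h2, fun as => ?_⟩
      rw [h3, val_cons, val_cons, ex, pow_add]
      ring
    · obtain ⟨l', h2, h3⟩ := ih _ _ _ h1
      refine ⟨l', h2, fun as => ?_⟩
      rw [h3, val_cons, ex, pow_add, Nat.eq_of_beq_eq_true e]
      ring

/-- substitute one label -/
noncomputable def stp1 (a : ℕ) (f : List (ℕ × ℕ) → Bool) (l : List (ℕ × ℕ)) : Bool :=
  List.rec (f []) (fun x l _ => frc (Nat.div x.1 16) fun k' => frc (sh x.2 (Nat.mul (Nat.mod x.1 16) a)) fun H' =>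
    stp a f l k' H' []) l

theorem stp1_spec {a : ℕ} {f : List (ℕ × ℕ) → Bool} {l : List (ℕ × ℕ)} (h : stp1 a f l = true) :
    ∃ l', f l' = true ∧ ∀ as, val l' as = val l (a :: as) := by
  cases l with
  | nil => exact ⟨[], h, fun _ => rfl⟩
  | cons x l =>
    have h1 : (frc (x.1 / 16) fun k' => frc (sh x.2 (x.1 % 16 * a)) fun H' => stp a f l k' H' []) = true := h
    rw [frc_eq, frc_eq, shl] at h1
    obtain ⟨l', h2, h3⟩ := stp_spec l _ _ _ h1
    refine ⟨l', h2, fun as => ?_⟩
    rw [h3, val_cons, ex, pow_add, show val [] as = 0 from rfl]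
    ring

/-- all the labels -/
noncomputable def go (m : ℕ) (fin : List ℕ → ℕ → ℕ → Bool) (ws : List ℕ) : List ℕ → ℕ → List (ℕ × ℕ) → Bool :=
  List.rec (fun as T l => fin as T (val l [])) (fun w ws ih as T l => allTo (fun a => frc (Nat.add T (Nat.mul w a)) fun T' =>
    cond (Nat.blt (Nat.add T' (Nat.mul m ws.sum)) (Nat.mul 9 m)) true (stp1 a (ih (a :: as) T') l)) (m + 1)) ws

theorem go_spec {m : ℕ} {fin : List ℕ → ℕ → ℕ → Bool} (ws : List ℕ) : ∀ as T l, go m fin ws as T l = true →
    ∀ bs : List ℕ, bs.length = ws.length → (∀ b ∈ bs, b ≤ m) →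
      (List.zipWith (· * ·) ws bs).sum ≤ m * ws.sum ∧ (9 * m ≤ T + (List.zipWith (· * ·) ws bs).sum →
        fin (bs.reverse ++ as) (T + (List.zipWith (· * ·) ws bs).sum) (val l bs) = true) := by
  have key : ∀ ws bs : List ℕ, (∀ b ∈ bs, b ≤ m) → (List.zipWith (· * ·) ws bs).sum ≤ m * ws.sum := by
    intro ws
    induction ws with
    | nil => exact fun _ _ => le_rfl
    | cons w ws ih =>
      intro bs h
      cases bs with
      | nil => exact Nat.zero_le _
      | cons b bs =>
        rw [List.zipWith_cons_cons, List.sum_cons, List.sum_cons, mul_add, mul_comm m]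
        exact Nat.add_le_add (Nat.mul_le_mul_left _ (h b List.mem_cons_self))
          (ih bs fun x hx => h x (List.mem_cons_of_mem _ hx))
  induction ws with
  | nil =>
    intro as T l h bs h1 h2
    rw [List.length_eq_zero_iff.1 h1]
    exact ⟨le_rfl, fun _ => h⟩
  | cons w ws ih =>
    intro as T l h bs h1 h2
    refine ⟨key _ _ h2, fun h3 => ?_⟩
    cases bs with
    | nil => cases h1
    | cons b bs =>
      have h' : allTo (fun a => frc (T + w * a) fun T' => cond (Nat.blt (T' + m * ws.sum) (9 * m)) true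
        (stp1 a (go m fin ws (a :: as) T') l)) (m + 1) = true := h
      have h4 := allTo_spec h' b (Nat.lt_succ_of_le (h2 b List.mem_cons_self))
      have h5 := key ws bs fun x hx => h2 x (List.mem_cons_of_mem _ hx)
      rw [List.zipWith_cons_cons, List.sum_cons, ← add_assoc] at h3 ⊢
      rw [frc_eq, show Nat.blt (T + w * b + m * ws.sum) (9 * m) = false by
        rw [← Bool.not_eq_true, Nat.blt_eq]; omega] at h4
      obtain ⟨l', h6, h7⟩ := stp1_spec h4
      rw [List.reverse_cons, List.append_assoc, ← h7]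
      exact (ih _ _ _ h6 bs (Nat.succ.inj h1) fun x hx => h2 x (List.mem_cons_of_mem _ hx)).2 h3

/-- a digit -/
def dg (H d : ℕ) : ℕ := Nat.mod (Nat.div H (Nat.pow 257 d)) 257

theorem dg_sum {ι : Type} (s : Finset ι) (e : ι → ℕ) (hs : s.card < 257) (d : ℕ) :
    dg (∑ i ∈ s, 257 ^ e i) d = (s.filter fun i => e i = d).card := by
  classical
  have key : ∃ lo hi, ∑ i ∈ s, 257 ^ e i = lo + 257 ^ d * ((s.filter fun i => e i = d).card + 257 * hi) ∧
      lo * 257 ≤ s.card * 257 ^ d := by
    clear hs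
    induction s using Finset.induction_on with
    | empty => exact ⟨0, 0, by simp, by simp⟩
    | insert i s hi ih =>
      obtain ⟨lo, hi', h1, h2⟩ := ih
      rw [Finset.sum_insert hi, Finset.filter_insert, Finset.card_insert_of_notMem hi, h1, add_mul, one_mul]
      rcases lt_trichotomy (e i) d with h | h | h
      · refine ⟨lo + 257 ^ e i, hi', by rw [if_neg h.ne]; ring, ?_⟩
        rw [add_mul, ← pow_succ]
        exact Nat.add_le_add h2 (Nat.pow_le_pow_right (by norm_num) h)
      · refine ⟨lo, hi', ?_, h2.trans (Nat.le_add_right _ _)⟩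
        rw [if_pos h, Finset.card_insert_of_notMem fun h3 => hi (Finset.mem_filter.1 h3).1, h]
        ring
      · obtain ⟨c, hc⟩ := Nat.exists_eq_add_of_lt h
        refine ⟨lo, hi' + 257 ^ c, ?_, h2.trans (Nat.le_add_right _ _)⟩
        rw [if_neg h.ne', hc]
        ring
  obtain ⟨lo, hi, h1, h2⟩ := key
  have h3 : 0 < 257 ^ d := Nat.pow_pos (by norm_num)
  have h4 : lo < 257 ^ d := by nlinarith
  rw [show ∀ H, dg H d = H / 257 ^ d % 257 from fun _ => rfl, h1, Nat.add_mul_div_left _ _ h3,
    Nat.div_eq_of_lt h4, zero_add, Nat.add_mul_mod_self_left,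
    Nat.mod_eq_of_lt ((Finset.card_filter_le _ _).trans_lt hs)]

end Fn

end Cfsg.Agent.E7P.A1
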