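import Cfsg.Agent.E7P.A1.FinA

/-!
# S5932, task A1: the finite check (helper24)
-/

set_option autoImplicit false
set_option Elab.async false
set_option maxRecDepth 100000

namespace Cfsg.Agent.E7P.A1

open Cfsg Cfsg.Lie Cfsg.Agent.E7P.Kf
open Cfsg.Agent.ChevalleyStructure.RootVec (rt)

namespace Fn

/-! ### the roots -/

/-- the codes of the roots plus the highest root -/
def KL : List ℕ := [0, 16777216, 16842752, 16846848, 16847104, 16847120, 16847121, 17895424, 17895680, 17895696, 17895697, 17899776,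
  17899792, 17899793, 17900048, 17900049, 17900065, 17965312, 17965328, 17965329, 17965584, 17965585, 17965601,
  17969680, 17969681, 17969697, 17969953, 19018256, 19018257, 19018273, 19018529, 19022625, 19088161, 34742528,
  34742544, 34742545, 34742800, 34742801, 34742817, 34746896, 34746897, 34746913, 34747169, 34812432, 34812433,
  34812449, 34812705, 34816801, 35795472, 35795473, 35795489, 35795745, 35799841, 35861008, 35861009, 35861025,
  35861281, 35865104, 35865105, 35865121, 35865360, 35865361, 35865376, 35865378, 35865393, 35865394, 35865633,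
  35865649, 35865650, 35869473, 35869729, 35869745, 35869746, 35930913, 35935009, 35935265, 35935281, 35935282,
  36913953, 36918049, 36918305, 36918321, 36918322, 36983585, 36983841, 36983857, 36983858, 36987937, 36987953,
  36987954, 36988209, 36988210, 36988226, 52642593, 52708129, 52712225, 52712481, 52712497, 52712498, 53760801,
  53761057, 53761073, 53761074, 53765153, 53765169, 53765170, 53765425, 53765426, 53765442, 53830689, 53830705,
  53830706, 53830961, 53830962, 53830978, 53835057, 53835058, 53835074, 53835330, 54883633, 54883634, 54883650,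
  54883906, 54888002, 54953538, 71730754]

/-- the code of a root -/
def key (r : ℕ) : ℕ := KL.getD r 0

theorem chk_key : ∀ r < 126, rt chevE7 r 6 = (key r % 16 : ℕ) - 1 ∧ rt chevE7 r 5 = (key r / 16 % 16 : ℕ) - 2 ∧
    rt chevE7 r 4 = (key r / 16 / 16 % 16 : ℕ) - 3 ∧ rt chevE7 r 3 = (key r / 16 / 16 / 16 % 16 : ℕ) - 4 ∧
    rt chevE7 r 2 = (key r / 16 / 16 / 16 / 16 % 16 : ℕ) - 3 ∧
    rt chevE7 r 1 = (key r / 16 / 16 / 16 / 16 / 16 % 16 : ℕ) - 2 ∧
    rt chevE7 r 0 = (key r / 16 / 16 / 16 / 16 / 16 / 16 % 16 : ℕ) - 2 := by decide +kernel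

/-- the labels, last label first -/
def rv (a : Fin 7 → ℕ) : List ℕ := [a 6, a 5, a 4, a 3, a 2, a 1, a 0]

theorem ex_key (a : Fin 7 → ℕ) (r : Fin 126) : (ex (key r) (rv a) : ℤ) = il a (Sum.inr r) + top a := by
  obtain ⟨h6, h5, h4, h3, h2, h1, h0⟩ := chk_key r r.2
  have e : il a (Sum.inr r) = rt chevE7 r 0 * a 0 + rt chevE7 r 1 * a 1 + rt chevE7 r 2 * a 2 + rt chevE7 r 3 * a 3 +
      rt chevE7 r 4 * a 4 + rt chevE7 r 5 * a 5 + rt chevE7 r 6 * a 6 :=
    Fin.sum_univ_seven fun j : Fin 7 => rt chevE7 r j * (a j : ℤ)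
  rw [e, h0, h1, h2, h3, h4, h5, h6, show top a = 2 * a 0 + 2 * a 1 + 3 * a 2 + 4 * a 3 + 3 * a 4 + 2 * a 5 + a 6 from rfl]
  simp only [rv, ex, Nat.cast_add, Nat.cast_mul, Nat.cast_ofNat, Nat.cast_zero]
  ring

/-- the initial list -/
def L0 : List (ℕ × ℕ) := KL.map fun k => (k, 1)

theorem cnt_eq (P : chevE7.Idx → Prop) [DecidablePred P] : cnt P = (Finset.univ.filter P).card := by
  rw [← Fintype.card_subtype, ← Nat.card_eq_fintype_card]
  rfl

theorem list_sum_range (f : ℕ → ℕ) (n : ℕ) : ((List.range n).map f).sum = ∑ r : Fin n, f r := by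
  rw [Fin.sum_univ_eq_sum_range]
  induction n with
  | zero => rfl
  | succ n ih => rw [List.range_succ, List.map_append, List.sum_append, ih, Finset.sum_range_succ]; simp

theorem L0_eq : L0 = (List.range 126).map fun r => (key r, 1) := by decide +kernel

theorem val_L0 (as : List ℕ) : val L0 as = ∑ r : Fin 126, 257 ^ ex (key r) as := by
  rw [L0_eq, val, List.map_map, list_sum_range]
  exact Finset.sum_congr rfl fun r _ => one_mul _

theorem il_inl (a : Fin 7 → ℕ) (i : Fin 7) : il a (Sum.inl i) = 0 := rfl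

theorem dg_val (a : Fin 7 → ℕ) (d : ℕ) :
    dg (val L0 (rv a) + sh 7 (top a)) d = cnt fun i => il a i = (d : ℤ) - top a := by
  have h0 : ∀ (T : ℕ) (f : Fin 126 → ℕ), ∑ r : Fin 126, 257 ^ f r + sh 7 T =
      ∑ i : Fin 7 ⊕ Fin 126, 257 ^ Sum.elim (fun _ => T) f i := by
    intro T f
    rw [Fintype.sum_sum_type, shl, add_comm]
    simp only [Sum.elim_inl, Sum.elim_inr, Finset.sum_const, Finset.card_univ, Fintype.card_fin, smul_eq_mul]
  have h1 : (Finset.univ : Finset (Fin 7 ⊕ Fin 126)).card < 257 := by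
    rw [Finset.card_univ, Fintype.card_sum, Fintype.card_fin, Fintype.card_fin]
    norm_num
  rw [val_L0, h0, dg_sum _ _ h1, ← Fintype.card_subtype, ← Nat.card_eq_fintype_card]
  refine Nat.card_congr (Equiv.subtypeEquivRight fun i => ?_)
  rcases i with i | r
  · rw [Sum.elim_inl]
    exact (by omega : top a = d ↔ (0 : ℤ) = (d : ℤ) - top a)
  · rw [Sum.elim_inr]
    have := ex_key a r
    exact (by omega : ex (key r) (rv a) = d ↔ il a (Sum.inr r) = (d : ℤ) - top a)

theorem cnt_le {P : chevE7.Idx → Prop} {l : List ℕ} (h1 : ∀ i, ¬ P (Sum.inl i))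
    (h2 : ∀ r : Fin 126, P (Sum.inr r) → r.val ∈ l) : cnt P ≤ l.length := by
  classical
  have h3 : ∀ i : {i // P i}, ∃ r : Fin 126, i.1 = Sum.inr r := by
    rintro ⟨i | r, h⟩
    · exact absurd h (h1 i)
    · exact ⟨r, rfl⟩
  choose f hf using h3
  have h4 : Nat.card l.toFinset ≤ l.length := by
    rw [Nat.card_eq_fintype_card, Fintype.card_coe]
    exact l.toFinset_card_le
  refine (Nat.card_le_card_of_injective (fun i : {i // P i} => (⟨(f i).val, List.mem_toFinset.2 (h2 _ (hf i ▸ i.2))⟩ :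
    l.toFinset)) fun i j e => Subtype.ext ?_).trans h4
  rw [hf, hf, show f i = f j from Fin.ext (congrArg Subtype.val e)]

theorem cnt_mono {P Q : chevE7.Idx → Prop} (h : ∀ i, P i → Q i) : cnt P ≤ cnt Q :=
  Nat.card_le_card_of_injective (fun i : {i // P i} => (⟨i.1, h _ i.2⟩ : {i // Q i})) fun _ _ e =>
    Subtype.ext (congrArg (fun x : {i // Q i} => x.1) e)

theorem le_cnt {P : chevE7.Idx → Prop} {l : List ℕ} (h0 : l.Nodup) (h1 : ∀ i, P (Sum.inl i))
    (h2 : ∀ t ∈ l, ∃ h : t < 126, P (Sum.inr ⟨t, h⟩)) : 7 + l.length ≤ cnt P := by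
  classical
  rw [cnt_eq]
  have h3 : Fintype.card (Fin 7 ⊕ Fin l.length) = 7 + l.length := by simp
  rw [← h3]
  refine Finset.card_le_card_of_injOn (s := Finset.univ)
    (Sum.map id fun i => (⟨l.get i, (h2 _ (List.get_mem l i)).1⟩ : Fin 126)) (fun i _ => ?_)
    (Function.Injective.sumMap Function.injective_id fun i j e => h0.injective_get (congrArg Fin.val e)).injOn
  refine Finset.mem_filter.2 ⟨Finset.mem_univ _, ?_⟩
  rcases i with i | i
  · exact h1 i
  · exact (h2 _ (List.get_mem l i)).2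

end Fn

end Cfsg.Agent.E7P.A1
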