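import Cfsg.Agent.E7P.A1.FinB

/-!
# S5932, task A1: the finite check (helper24)
-/

set_option autoImplicit false
set_option Elab.async false
set_option maxRecDepth 100000

namespace Cfsg.Agent.E7P.A1

open Cfsg Cfsg.Lie Cfsg.Agent.E7P.Kf
open Cfsg.Agent.ChevalleyStructure.RootVec (rt)

namespace Fn

/-! ### the survivors -/

/-- all the subsets -/
noncomputable def allSub (f : ℕ → ℕ → Bool) (l : List ℕ) : ℕ → ℕ → Bool :=
  List.rec f (fun r _ ih M c => ih M c && frc (M ||| 2 ^ r) fun M' => frc (c + 1) (ih M')) l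

theorem allSub_spec {f : ℕ → ℕ → Bool} (Q : ℕ → Bool) (l : List ℕ) : ∀ M c, allSub f l M c = true →
    ∃ M', f M' (c + (l.filter Q).length) = true ∧
      ∀ x, M'.testBit x = true ↔ M.testBit x = true ∨ x ∈ l.filter Q := by
  induction l with
  | nil => exact fun M c h => ⟨M, h, fun x => by simp⟩
  | cons r l ih =>
    intro M c h
    have h1 : (allSub f l M c && frc (M ||| 2 ^ r) fun M' => frc (c + 1) (allSub f l M')) = true := h
    rw [Bool.and_eq_true, frc_eq, frc_eq] at h1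
    cases e : Q r
    · rw [List.filter_cons_of_neg (by simp [e])]
      exact ih _ _ h1.1
    · obtain ⟨M', h2, h3⟩ := ih _ _ h1.2
      rw [List.filter_cons_of_pos e, List.length_cons, add_comm _ 1, ← add_assoc]
      refine ⟨M', h2, fun x => ?_⟩
      rw [h3, Nat.testBit_or, Bool.or_eq_true, Nat.testBit_two_pow, decide_eq_true_iff, List.mem_cons, or_assoc,
        eq_comm (a := r)]

/-- a survivor -/
structure Sv where
  /-- the denominator -/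
  m : ℕ
  /-- the prime -/
  p : ℕ
  /-- the labels -/
  as : List ℕ
  /-- the roots of level one -/
  L : List ℕ
  /-- differences of roots -/
  Tr : List (ℕ × List (ℕ × ℕ))
  /-- orthogonal vectors -/
  Z : List (List ℤ)

/-- the survivors -/
def sv : List Sv := [
  ⟨3, 13, [3, 0, 3, 3, 0, 3, 0], [1, 2, 4, 5, 6, 7, 10, 16, 17, 30],
    [(47, [(6, 16), (7, 17)]), (59, [(1, 4), (2, 5), (6, 7), (16, 17)]), (62, [(1, 2), (4, 5)]), (63, [(2, 1), (5,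
    4)]), (66, [(4, 1), (5, 2), (7, 6), (17, 16)]), (78, [(16, 6), (17, 7)])],
    []⟩,
  ⟨3, 11, [3, 3, 3, 0, 0, 3, 3], [0, 1, 4, 8, 10, 11, 12, 15, 16, 17, 30],
    [(55, [(1, 8), (10, 12), (15, 17)]), (56, [(4, 8), (10, 11), (15, 16)]), (59, [(1, 4), (11, 12), (16, 17)]),
    (66, [(4, 1), (12, 11), (17, 16)]), (69, [(8, 4), (11, 10), (16, 15)]), (70, [(8, 1), (12, 10), (17, 15)])],
    [[0, -1, -1, 1, 0, 0, 0], [0, 0, 0, -1, 1, 0, 0], [0, 0, 0, 0, -1, 1, 0]]⟩,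
  ⟨3, 13, [3, 3, 3, 0, 3, 3, 0], [1, 2, 3, 7, 10, 11, 15, 16, 30],
    [(56, [(3, 7), (10, 11), (15, 16)]), (62, [(1, 2)]), (63, [(2, 1)]), (69, [(7, 3), (11, 10), (16, 15)])],
    [[0, 0, 0, 0, 0, 0, 1], [0, 0, 0, 0, 0, -1, 1]]⟩,
  ⟨3, 13, [3, 3, 3, 3, 0, 0, 3], [0, 2, 5, 6, 7, 8, 10, 15, 30],
    [(58, [(0, 5), (6, 8)]), (59, [(2, 5), (6, 7)]), (61, [(0, 2), (7, 8)]), (64, [(2, 0), (8, 7)]), (66, [(5, 2),
    (7, 6)]), (67, [(5, 0), (8, 6)])],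
    []⟩,
  ⟨4, 11, [2, 4, 2, 2, 2, 0, 4], [0, 2, 7, 8, 11, 15, 31],
    [(61, [(0, 2), (7, 8)]), (64, [(2, 0), (8, 7)])],
    []⟩,
  ⟨4, 13, [4, 0, 4, 4, 0, 4, 0], [1, 2, 4, 5, 6, 7, 10, 16, 17, 30],
    [(47, [(6, 16), (7, 17)]), (59, [(1, 4), (2, 5), (6, 7), (16, 17)]), (62, [(1, 2), (4, 5)]), (63, [(2, 1), (5,
    4)]), (66, [(4, 1), (5, 2), (7, 6), (17, 16)]), (78, [(16, 6), (17, 7)])],
    []⟩,
  ⟨4, 11, [4, 2, 0, 2, 2, 4, 4], [0, 1, 7, 12, 16, 20, 30, 31],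
    [(52, [(7, 12), (16, 20), (30, 31)]), (73, [(12, 7), (20, 16), (31, 30)])],
    []⟩,
  ⟨4, 11, [4, 2, 2, 2, 0, 4, 4], [0, 1, 4, 11, 12, 16, 17, 30],
    [(59, [(1, 4), (11, 12), (16, 17)]), (66, [(4, 1), (12, 11), (17, 16)])],
    []⟩,
  ⟨4, 11, [4, 4, 4, 0, 0, 4, 4], [0, 1, 4, 8, 10, 11, 12, 15, 16, 17, 30],
    [(55, [(1, 8), (10, 12), (15, 17)]), (56, [(4, 8), (10, 11), (15, 16)]), (59, [(1, 4), (11, 12), (16, 17)]),
    (66, [(4, 1), (12, 11), (17, 16)]), (69, [(8, 4), (11, 10), (16, 15)]), (70, [(8, 1), (12, 10), (17, 15)])],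
    [[0, -1, -1, 1, 0, 0, 0], [0, 0, 0, -1, 1, 0, 0], [0, 0, 0, 0, -1, 1, 0]]⟩,
  ⟨4, 13, [4, 4, 4, 0, 4, 4, 0], [1, 2, 3, 7, 10, 11, 15, 16, 30],
    [(56, [(3, 7), (10, 11), (15, 16)]), (62, [(1, 2)]), (63, [(2, 1)]), (69, [(7, 3), (11, 10), (16, 15)])],
    [[0, 0, 0, 0, 0, 0, 1], [0, 0, 0, 0, 0, -1, 1]]⟩,
  ⟨4, 13, [4, 4, 4, 4, 0, 0, 4], [0, 2, 5, 6, 7, 8, 10, 15, 30],
    [(58, [(0, 5), (6, 8)]), (59, [(2, 5), (6, 7)]), (61, [(0, 2), (7, 8)]), (64, [(2, 0), (8, 7)]), (66, [(5, 2),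
    (7, 6)]), (67, [(5, 0), (8, 6)])],
    []⟩]

/-- the highest level -/
def tp (as : List ℕ) : ℕ := (List.zipWith (· * ·) [2, 2, 3, 4, 3, 2, 1] as).sum

/-- the roots of the lowest level -/
def Sv.sl (s : Sv) : List ℕ :=
  (List.range 126).filter fun r => Nat.beq (ex (key r) s.as.reverse + (s.p - 1) * s.m) (tp s.as)

/-- the differences found in a subset -/
def Sv.df (s : Sv) (M : ℕ) : List (ℕ × List (ℕ × ℕ)) :=
  s.Tr.filter fun x => x.2.any fun y => M.testBit y.1 && M.testBit y.2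

/-- the check of a survivor (the roots of level one are coded by their index minus `63`) -/
noncomputable def Sv.ok (s : Sv) : Bool :=
  allTo (fun r => !Nat.beq (ex (key r) s.as.reverse) (tp s.as + s.m) || (s.L.map (· + 63)).contains r) 126 &&
  decide (s.Tr.map Prod.fst).Nodup &&
  (s.Tr.all fun x => Nat.blt x.1 126 && x.2.all fun y => Nat.blt y.1 63 && Nat.blt y.2 63 &&
    allTo (fun j => rt chevE7 (y.1 + 63) j == rt chevE7 (y.2 + 63) j + rt chevE7 x.1 j) 7) &&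
  (s.Z.all fun z => anyTo (fun j => z.getD j 0 != 0) 7) &&
  frc s.sl.length fun sl => allSub (fun M c => Nat.blt c 7 || Nat.blt (c + sl) (7 + (s.df M).length) ||
    s.Z.any fun z => s.L.all fun r => !M.testBit r || pz (r + 63) (fun j => z.getD j 0) == 0) s.L 0 0

/-- twice the norm -/
def nrN (as : List ℕ) : ℤ := nrm fun j => as.getD j 0

/-- the check of a vector -/
noncomputable def fin (m : ℕ) (as : List ℕ) (T H : ℕ) : Bool :=
  frc (Nat.add H (sh 7 T)) fun H' => anyTo (fun d => Nat.blt (dg H' (Nat.add d m)) (dg H' d)) T ||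
    [11, 13, 17].all fun p => Nat.blt T ((p - 2) * m) || Nat.blt ((p - 1) * m) T ||
      (Nat.beq T ((p - 2) * m) && nrN as % p != 0) || Nat.blt (dg H' (T + m)) 7 ||
      sv.any fun s => Nat.beq s.m m && Nat.beq s.p p && s.as == as


end Fn

end Cfsg.Agent.E7P.A1
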