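import Cfsg.Agent.E7P.A1.FinC

/-!
# S5932, task A1: the finite check (helper24)
-/

set_option autoImplicit false
set_option Elab.async false
set_option maxRecDepth 100000

namespace Cfsg.Agent.E7P.A1

open Cfsg Cfsg.Lie Cfsg.Agent.E7P.Kf
open Cfsg.Agent.ChevalleyStructure.RootVec (rt)

namespace Fn

theorem sv_ok : sv.all Sv.ok = true := by decide +kernel

theorem go3 : go 3 (fin 3) [1, 2, 3, 4, 3, 2, 2] [] 0 L0 = true := by decide +kernel

end Fn

end Cfsg.Agent.E7P.A1
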