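import Cfsg.Agent.E7P.A1.Iface

/-!
# S5932, task A1: the finite check (helper61)

* `cnt_eq`, `cnt_il` : the counts in terms of the list `RL` of the positive roots;
* `val`, `step` : the histogram of the levels, evaluated label by label; `dig_sum` : its digits;
* `leaf`, `chk` : the test; `fin : FIN`.
-/

set_option autoImplicit false
set_option maxRecDepth 100000
set_option maxHeartbeats 400000

namespace Cfsg.Agent.E7P.A1.Fz

open Cfsg Cfsg.Lie Cfsg.Agent.E7P.Kf Cfsg.Agent.E7P.A1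
open Cfsg.Agent.R2.T1 (RL dt RL_rt RL_rt' RL_len RL_lt RL_fst dt_eq sum_roots)
open Cfsg.Agent.ChevalleyStructure.RootVec (rt)

/-! ### the histogram -/

/-- the level of a key -/
noncomputable def dg (a : List ℕ) : ℕ → ℕ := List.rec (fun _ => 0) (fun x _ ih k => k % 8 * x + ih (k / 8)) a

/-- the value of a state -/
noncomputable def val (st : List (ℕ × ℕ)) (a : List ℕ) : ℕ := (st.map fun e => e.2 * 128 ^ dg a e.1).sum

/-- insertion -/
noncomputable def ins (k n : ℕ) (l : List (ℕ × ℕ)) : List (ℕ × ℕ) :=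
  List.rec [(k, n)] (fun e l _ => cond (Nat.beq k e.1) ((k, Nat.add n e.2) :: l) ((k, n) :: e :: l)) l

/-- the substitution of a label -/
noncomputable def step (x : ℕ) (st : List (ℕ × ℕ)) : List (ℕ × ℕ) :=
  List.rec [] (fun e _ ih => ins (Nat.div e.1 8) (Nat.shiftLeft e.2 (Nat.mul 7 (Nat.mul (Nat.mod e.1 8) x))) ih) st

/-- the final value -/
noncomputable def tot (st : List (ℕ × ℕ)) : ℕ := List.rec 0 (fun e _ ih => Nat.add e.2 ih) st

theorem val_ins (k n : ℕ) (l : List (ℕ × ℕ)) (a : List ℕ) : val (ins k n l) a = n * 128 ^ dg a k + val l a := by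
  cases l with
  | nil => rfl
  | cons e l =>
    show val (cond (Nat.beq k e.1) ((k, n + e.2) :: l) ((k, n) :: e :: l)) a = _
    cases h : Nat.beq k e.1
    · rfl
    · have h1 := Nat.eq_of_beq_eq_true h
      show (n + e.2) * 128 ^ dg a k + val l a = n * 128 ^ dg a k + (e.2 * 128 ^ dg a e.1 + val l a)
      rw [← h1]
      ring

theorem val_step (x : ℕ) (st : List (ℕ × ℕ)) (a : List ℕ) : val (step x st) a = val st (x :: a) := by
  induction st with
  | nil => rfl
  | cons e l ih =>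
    show val (ins (e.1 / 8) (e.2 <<< (7 * (e.1 % 8 * x))) (step x l)) a =
      e.2 * 128 ^ (e.1 % 8 * x + dg a (e.1 / 8)) + val l (x :: a)
    rw [val_ins, ih, Nat.shiftLeft_eq, pow_mul 2 7, pow_add, mul_assoc]
    rfl

theorem tot_eq (st : List (ℕ × ℕ)) : tot st = val st [] := by
  induction st with
  | nil => rfl
  | cons e l ih =>
    show e.2 + tot l = e.2 * 128 ^ 0 + val l []
    rw [ih, pow_zero, mul_one]

/-- the key of a vector -/
def ky (l : List ℕ) : ℕ := l.foldr (fun x k => x + 8 * k) 0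

theorem dg_ky (w : List ℕ) : ∀ a : List ℕ, (∀ x ∈ w, x < 8) → dg a (ky w) = dt w a := by
  induction w with
  | nil =>
    intro a _
    induction a with
    | nil => rfl
    | cons x a ih =>
      show 0 % 8 * x + dg a (0 / 8) = 0
      have : dg a 0 = 0 := ih
      rw [Nat.zero_mod, Nat.zero_div, this, zero_mul]
  | cons y w ih =>
    intro a h
    cases a with
    | nil => rfl
    | cons x a =>
      have hy : y < 8 := h y List.mem_cons_self
      show (y + 8 * ky w) % 8 * x + dg a ((y + 8 * ky w) / 8) = y * x + dt w a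
      rw [show (y + 8 * ky w) % 8 = y by omega, show (y + 8 * ky w) / 8 = ky w by omega,
        ih a fun z hz => h z (List.mem_cons_of_mem _ hz)]

/-- the sorted keys -/
def SR : List ℕ := [1, 8, 64, 65, 512, 520, 576, 577, 584, 585, 4096, 4608, 4616, 4672, 4673, 4680, 4681, 5192, 5193, 5257,
  32768, 36864, 37376, 37384, 37440, 37441, 37448, 37449, 37960, 37961, 38025, 42056, 42057, 42121, 42633, 42641, 262144,
  294912, 299008, 299520, 299528, 299584, 299585, 299592, 299593, 300104, 300105, 300169, 304200, 304201, 304265, 304777,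
  304785, 336968, 336969, 337033, 337545, 337553, 341641, 341649, 342161, 342225, 342226]

theorem SR_perm : SR.Perm (RL.map fun w => ky w.2) := by decide +kernel

theorem RL_small : ∀ w ∈ RL, ∀ x ∈ w.2, x < 8 := by decide +kernel

theorem RL_length : RL.length = 63 := by decide +kernel

theorem val_SR (a : List ℕ) : val (SR.map fun k => (k, 1)) a = ((RL.map fun w => dt w.2 a).map (128 ^ ·)).sum := by
  rw [val, List.map_map, (SR_perm.map _).sum_eq, List.map_map, List.map_map]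
  refine congrArg List.sum (List.map_congr_left fun w hw => ?_)
  show 1 * 128 ^ dg a (ky w.2) = 128 ^ dt w.2 a
  rw [dg_ky _ _ (RL_small w hw), one_mul]

/-- a digit -/
def dig (H d : ℕ) : ℕ := Nat.mod (Nat.shiftRight H (Nat.mul 7 d)) 128

theorem dig_aux (L : List ℕ) (d : ℕ) : ∃ lo hi : ℕ, (L.map (128 ^ ·)).sum = lo + 128 ^ d * (L.count d + 128 * hi) ∧
    128 * lo ≤ L.length * 128 ^ d := by
  induction L with
  | nil => exact ⟨0, 0, rfl, by simp⟩
  | cons x L ih =>
    obtain ⟨lo, hi, h1, h2⟩ := ih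
    rw [List.map_cons, List.sum_cons, h1, List.count_cons, List.length_cons]
    rcases lt_trichotomy x d with h | h | h
    · refine ⟨lo + 128 ^ x, hi, ?_, ?_⟩
      · rw [if_neg (by simpa using h.ne)]
        ring
      · have h3 : 128 ^ (x + 1) ≤ 128 ^ d := Nat.pow_le_pow_right (by omega) h
        rw [pow_succ] at h3
        rw [add_mul]
        omega
    · subst h
      refine ⟨lo, hi, ?_, ?_⟩
      · rw [if_pos (by simp)]
        ring
      · rw [add_mul]
        omega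
    · obtain ⟨e, rfl⟩ := Nat.exists_eq_add_of_lt h
      refine ⟨lo, hi + 128 ^ e, ?_, ?_⟩
      · rw [if_neg (by simpa using h.ne')]
        ring
      · rw [add_mul]
        omega

theorem dig_sum (L : List ℕ) (hL : L.length < 128) (d : ℕ) : dig (L.map (128 ^ ·)).sum d = L.count d := by
  obtain ⟨lo, hi, h1, h2⟩ := dig_aux L d
  have h3 : 0 < 128 ^ d := by positivity
  have h4 : lo < 128 ^ d := by
    have : L.length * 128 ^ d < 128 * 128 ^ d := Nat.mul_lt_mul_of_pos_right hL h3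
    omega
  have h5 := List.count_le_length (a := d) (l := L)
  show ((L.map (128 ^ ·)).sum >>> (7 * d)) % 128 = _
  rw [Nat.shiftRight_eq_div_pow, pow_mul, h1, show 2 ^ 7 = 128 from rfl, Nat.add_mul_div_left _ _ h3, Nat.div_eq_of_lt h4]
  omega

/-! ### the test -/

/-- the bound for the level `-d` -/
def cc (H m d : ℕ) : ℕ :=
  cond (Nat.ble d m) (cond (Nat.beq d m) (Nat.add 7 (Nat.mul 2 (dig H 0))) (dig H (Nat.sub m d))) (dig H (Nat.sub d m))

/-- a violation of the inequalities -/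
noncomputable def viol (H m n : ℕ) : Bool :=
  Nat.rec false (fun d ih => cond (Nat.ble (dig H (Nat.succ d)) (cc H m (Nat.succ d))) ih true) n

/-- the prime -/
def pp (m T : ℕ) : ℕ := cond (Nat.ble T (Nat.mul 10 m)) 11 (cond (Nat.ble T (Nat.mul 12 m)) 13 17)

/-- twice the norm -/
def nr (a : List ℕ) : ℕ := dt a ([[4, 4, 6, 8, 6, 4, 2], [4, 7, 8, 12, 9, 6, 3], [6, 8, 12, 16, 12, 8, 4],
  [8, 12, 16, 24, 18, 12, 6], [6, 9, 12, 18, 15, 10, 5], [4, 6, 8, 12, 10, 8, 4], [2, 3, 4, 6, 5, 4, 3]].map fun r => dt r a)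

/-- some cocharacters, as differences -/
def ZL : List (List ℕ × List ℕ) := [([0, 0, 0, 1, 0, 0, 0], [0, 1, 1, 0, 0, 0, 0]), ([0, 0, 0, 0, 1, 0, 0], [0, 0, 0, 1, 0, 0, 0]),
  ([0, 0, 0, 0, 0, 1, 0], [0, 0, 0, 0, 1, 0, 0]), ([0, 0, 0, 0, 0, 0, 1], [0, 0, 0, 0, 0, 0, 0]),
  ([0, 0, 0, 0, 0, 0, 1], [0, 0, 0, 0, 0, 1, 0])]

/-- a difference of two members of `S` -/
def df (S : List (ℕ × List ℕ)) (t : ℕ × List ℕ) : Bool :=
  S.any fun r => S.any fun s => (List.range 7).all fun j => Nat.beq (r.2.getD j 0) (Nat.add (s.2.getD j 0) (t.2.getD j 0))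

/-- the test for the supports -/
def sec (m sl : ℕ) (a : List ℕ) : Bool := (RL.filter fun w => Nat.beq (dt w.2 a) m).sublists.all fun S =>
  Nat.ble S.length 6 || (Nat.ble (S.length + sl) (6 + 2 * (RL.filter fun w => Nat.beq (dt w.2 a) 0).countP (df S)) ||
    ZL.any fun z => S.all fun w => Nat.beq (dt w.2 z.1) (dt w.2 z.2))

/-- the test for given labels -/
noncomputable def leaf (m T H : ℕ) (a : List ℕ) : Bool :=
  cond (Nat.ble (Nat.mul (Nat.sub (pp m T) 2) m) T) (cond (Nat.ble T (Nat.mul (Nat.sub (pp m T) 1) m))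
    (cond (Nat.ble 7 (dig H m)) (cond (viol H m T) true
      (cond (Nat.beq T (Nat.mul (Nat.sub (pp m T) 2) m) && !Nat.beq (Nat.mod (nr a) (pp m T)) 0) true
        (sec m (dig H (Nat.mul (Nat.sub (pp m T) 1) m)) a))) true) true) true

/-- a loop -/
noncomputable def lp (m : ℕ) (f : ℕ → Bool) : Bool := Nat.rec (f 0) (fun k ih => cond (f (Nat.succ k)) ih false) m

theorem lp_spec {m : ℕ} {f : ℕ → Bool} (h : lp m f = true) {x : ℕ} (hx : x ≤ m) : f x = true := by
  induction m with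
  | zero =>
    obtain rfl : x = 0 := by omega
    exact h
  | succ k ih =>
    have h1 : cond (f (k + 1)) (lp k f) false = true := h
    cases h2 : f (k + 1)
    · rw [h2] at h1
      exact absurd h1 Bool.false_ne_true
    · rw [h2] at h1
      rcases Nat.lt_or_ge k x with h3 | h3
      · obtain rfl : x = k + 1 := by omega
        exact h2
      · exact ih h1 h3

/-- the check -/
noncomputable def chk (m a0 : ℕ) : Bool :=
  lp m fun a1 => lp m fun a2 => lp m fun a3 => lp m fun a4 => lp m fun a5 => lp m fun a6 =>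
    leaf m (Nat.add (Nat.add (Nat.add (Nat.add (Nat.add (Nat.add (Nat.mul 2 a0) (Nat.mul 2 a1)) (Nat.mul 3 a2)) (Nat.mul 4 a3))
      (Nat.mul 3 a4)) (Nat.mul 2 a5)) a6)
      (tot (step a6 (step a5 (step a4 (step a3 (step a2 (step a1 (step a0 (SR.map fun k => (k, 1))))))))))
      [a0, a1, a2, a3, a4, a5, a6]

theorem chk_3 : lp 3 (chk 3) = true := by decide +kernel
theorem chk_40 : chk 4 0 = true := by decide +kernel
theorem chk_41 : chk 4 1 = true := by decide +kernel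
theorem chk_42 : chk 4 2 = true := by decide +kernel
theorem chk_43 : chk 4 3 = true := by decide +kernel
theorem chk_44 : chk 4 4 = true := by decide +kernel

/-! ### the counts -/

/-- the list of the labels -/
def ls (a : Fin 7 → ℕ) : List ℕ := [a 0, a 1, a 2, a 3, a 4, a 5, a 6]

theorem chk_leaf {m : ℕ} (hm : m = 3 ∨ m = 4) {a : Fin 7 → ℕ} (ha : ∀ j, a j ≤ m) :
    leaf m (top a) ((RL.map fun w => dt w.2 (ls a)).map (128 ^ ·)).sum (ls a) = true := by
  have h0 : chk m (a 0) = true := by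
    rcases hm with rfl | rfl
    · exact lp_spec chk_3 (ha 0)
    · have := ha 0
      interval_cases a 0
      exacts [chk_40, chk_41, chk_42, chk_43, chk_44]
  have h1 := lp_spec (lp_spec (lp_spec (lp_spec (lp_spec (lp_spec h0 (ha 1)) (ha 2)) (ha 3)) (ha 4)) (ha 5)) (ha 6)
  simp only [tot_eq, val_step, val_SR] at h1
  exact h1

theorem pz_pos {w : ℕ × List ℕ} (hw : w ∈ RL) (a : Fin 7 → ℕ) : pz w.1 (fun j => a j) = dt w.2 (ls a) := by
  rw [dt_eq _ _ (RL_len w hw), pz, Fin.sum_univ_seven]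
  show _ = ((∑ j ∈ Finset.range 7, w.2.getD j 0 * (ls a).getD j 0 : ℕ) : ℤ)
  simp only [Finset.sum_range_succ, Finset.sum_range_zero]
  rw [RL_rt w hw _ (Fin.is_lt 0), RL_rt w hw _ (Fin.is_lt 1), RL_rt w hw _ (Fin.is_lt 2), RL_rt w hw _ (Fin.is_lt 3),
    RL_rt w hw _ (Fin.is_lt 4), RL_rt w hw _ (Fin.is_lt 5), RL_rt w hw _ (Fin.is_lt 6)]
  push_cast
  rw [zero_add]
  rfl

theorem pz_neg {w : ℕ × List ℕ} (hw : w ∈ RL) (a : Fin 7 → ℤ) : pz (125 - w.1) a = - pz w.1 a := by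
  rw [pz, pz, ← Finset.sum_neg_distrib]
  refine Finset.sum_congr rfl fun j _ => ?_
  rw [RL_rt w hw _ j.2, RL_rt' w hw _ j.2, neg_mul]

theorem pz_sub (r : ℕ) (a b : Fin 7 → ℤ) : pz r (a - b) = pz r a - pz r b := by
  rw [pz, pz, pz, ← Finset.sum_sub_distrib]
  exact Finset.sum_congr rfl fun j _ => by rw [Pi.sub_apply, mul_sub]

/-- a property of a root -/
def Pn (P : chevE7.Idx → Prop) (r : ℕ) : Prop := ∃ h : r < chevE7.nroots, P (Sum.inr ⟨r, h⟩)

/-- the same, as a test -/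
noncomputable def Pb (P : chevE7.Idx → Prop) (r : ℕ) : Bool := @decide (Pn P r) (Classical.propDecidable _)

theorem Pb_iff {P : chevE7.Idx → Prop} {r : ℕ} : Pb P r = true ↔ Pn P r := @decide_eq_true_iff _ (Classical.propDecidable _)

theorem sum_ite {α : Type} (p : α → Bool) (l : List α) : (l.map fun w => if p w = true then 1 else 0).sum = l.countP p := by
  induction l with
  | nil => rfl
  | cons x l ih => rw [List.map_cons, List.sum_cons, ih, List.countP_cons, add_comm]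

open Classical in
theorem cnt_eq (P : chevE7.Idx → Prop) : cnt P = (∑ i : Fin chevE7.rank, if P (Sum.inl i) then 1 else 0) +
    (RL.countP (fun w => Pb P w.1) + RL.countP fun w => Pb P (125 - w.1)) := by
  have h1 : ∑ r : Fin chevE7.nroots, (if P (Sum.inr r) then 1 else 0) =
      ∑ r : Fin chevE7.nroots, (fun r : ℕ => if Pb P r = true then 1 else 0) r :=
    Finset.sum_congr rfl fun r _ => if_congr ⟨fun h => Pb_iff.2 ⟨r.2, h⟩, fun h => (Pb_iff.1 h).2⟩ rfl rfl
  rw [cnt, Nat.card_eq_fintype_card, Fintype.card_subtype, Finset.card_filter, Fintype.sum_sum_type,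
    h1.trans (sum_roots fun r : ℕ => if Pb P r = true then 1 else 0), sum_ite, sum_ite]

theorem cnt_all {P : chevE7.Idx → Prop} (h : ∀ i, P (Sum.inl i)) :
    cnt P = 7 + (RL.countP (fun w => Pb P w.1) + RL.countP fun w => Pb P (125 - w.1)) := by
  rw [cnt_eq]
  simp only [h, if_true, Finset.sum_const, Finset.card_univ, Fintype.card_fin]
  rfl

theorem cnt_none {P : chevE7.Idx → Prop} (h : ∀ i, ¬ P (Sum.inl i)) :
    cnt P = RL.countP (fun w => Pb P w.1) + RL.countP fun w => Pb P (125 - w.1) := by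
  rw [cnt_eq]
  simp only [h, if_false, Finset.sum_const_zero, zero_add]

theorem Pn_pos {w : ℕ × List ℕ} (hw : w ∈ RL) (a : Fin 7 → ℕ) (z : ℤ) :
    Pn (fun i => il a i = z) w.1 ↔ (dt w.2 (ls a) : ℤ) = z := by
  rw [← pz_pos hw]
  exact ⟨fun h => h.2, fun h => ⟨RL_lt w hw, h⟩⟩

theorem Pn_neg {w : ℕ × List ℕ} (hw : w ∈ RL) (a : Fin 7 → ℕ) (z : ℤ) :
    Pn (fun i => il a i = z) (125 - w.1) ↔ -(dt w.2 (ls a) : ℤ) = z := by
  rw [← pz_pos hw, ← pz_neg hw]
  exact ⟨fun h => h.2, fun h => ⟨show 125 - w.1 < 126 by omega, h⟩⟩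

/-- the number of positive roots of a level -/
def lv (a : Fin 7 → ℕ) (d : ℕ) : ℕ := (RL.map fun w => dt w.2 (ls a)).count d

theorem lv_eq (a : Fin 7 → ℕ) (d : ℕ) : lv a d = RL.countP fun w => decide (dt w.2 (ls a) = d) := by
  rw [lv, List.count_eq_countP, List.countP_map]
  exact List.countP_congr fun w _ => by simp

theorem dig_lv (a : Fin 7 → ℕ) (d : ℕ) : dig ((RL.map fun w => dt w.2 (ls a)).map (128 ^ ·)).sum d = lv a d :=
  dig_sum _ (by rw [List.length_map, RL_length]; omega) d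

theorem cnt_pos (a : Fin 7 → ℕ) {d : ℕ} (hd : 0 < d) : cnt (fun i => il a i = d) = lv a d := by
  have h : RL.countP (fun w => Pb (fun i => il a i = d) (125 - w.1)) = 0 := List.countP_eq_zero.2 fun w hw => by
    rw [Pb_iff, Pn_neg hw]
    omega
  rw [cnt_none fun i => show ¬ (0 : ℤ) = d by omega, lv_eq, h, add_zero]
  refine List.countP_congr fun w hw => ?_
  rw [Pb_iff, decide_eq_true_iff, Pn_pos hw, Nat.cast_inj]

theorem cnt_neg (a : Fin 7 → ℕ) {d : ℕ} (hd : 0 < d) : cnt (fun i => il a i = -(d : ℤ)) = lv a d := by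
  have h : RL.countP (fun w => Pb (fun i => il a i = -(d : ℤ)) w.1) = 0 := List.countP_eq_zero.2 fun w hw => by
    rw [Pb_iff, Pn_pos hw]
    omega
  rw [cnt_none fun i => show ¬ (0 : ℤ) = -(d : ℤ) by omega, lv_eq, h, zero_add]
  refine List.countP_congr fun w hw => ?_
  rw [Pb_iff, decide_eq_true_iff, Pn_neg hw, neg_inj, Nat.cast_inj]

theorem cnt_zero (a : Fin 7 → ℕ) : cnt (fun i => il a i = 0) = 7 + 2 * lv a 0 := by
  have h1 : RL.countP (fun w => Pb (fun i => il a i = 0) w.1) = lv a 0 := by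
    rw [lv_eq]
    refine List.countP_congr fun w hw => ?_
    rw [Pb_iff, decide_eq_true_iff, Pn_pos hw, Nat.cast_eq_zero]
  have h2 : RL.countP (fun w => Pb (fun i => il a i = 0) (125 - w.1)) = lv a 0 := by
    rw [lv_eq]
    refine List.countP_congr fun w hw => ?_
    rw [Pb_iff, decide_eq_true_iff, Pn_neg hw, neg_eq_zero, Nat.cast_eq_zero]
  rw [cnt_all (P := fun i => il a i = 0) fun i => rfl, h1, h2, two_mul]

theorem viol_false {H m : ℕ} (h : ∀ d, 0 < d → dig H d ≤ cc H m d) (n : ℕ) : viol H m n = false := by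
  induction n with
  | zero => rfl
  | succ n ih =>
    show cond (Nat.ble (dig H (n + 1)) (cc H m (n + 1))) (viol H m n) true = false
    rw [Nat.ble_eq_true_of_le (h _ n.succ_pos), ih]
    rfl

theorem cc_eq (a : Fin 7 → ℕ) (m d : ℕ) :
    cc ((RL.map fun w => dt w.2 (ls a)).map (128 ^ ·)).sum m d = cnt fun i => il a i = -(d : ℤ) + m := by
  rw [cc, dig_lv, dig_lv, dig_lv]
  rcases lt_trichotomy d m with h | h | h
  · rw [Nat.ble_eq_true_of_le h.le, Bool.eq_false_iff.2 fun e => h.ne (Nat.eq_of_beq_eq_true e),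
      show -(d : ℤ) + m = ((m - d : ℕ) : ℤ) by omega, cnt_pos a (by omega)]
    rfl
  · subst h
    rw [Nat.ble_eq_true_of_le le_rfl, Nat.beq_refl, neg_add_cancel, cnt_zero]
    rfl
  · rw [Bool.eq_false_iff.2 fun e => h.not_ge (Nat.le_of_ble_eq_true e),
      show -(d : ℤ) + m = -((d - m : ℕ) : ℤ) by omega, cnt_neg a (by omega)]
    rfl

theorem pp_eq {p m T : ℕ} (hp : p = 11 ∨ p = 13 ∨ p = 17) (hm : 0 < m) (h1 : (p - 2) * m ≤ T) (h2 : T ≤ (p - 1) * m) :
    pp m T = p := by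
  have h3 : ∀ x y : ℕ, y < x → Nat.ble x y = false := fun x y h =>
    Bool.eq_false_iff.2 fun e => h.not_ge (Nat.le_of_ble_eq_true e)
  rcases hp with rfl | rfl | rfl
  · rw [pp, Nat.ble_eq_true_of_le (show T ≤ Nat.mul 10 m from h2)]
    rfl
  · rw [pp, h3 T (Nat.mul 10 m) (show 10 * m < T by omega), Nat.ble_eq_true_of_le (show T ≤ Nat.mul 12 m from h2)]
    rfl
  · rw [pp, h3 T (Nat.mul 10 m) (show 10 * m < T by omega), h3 T (Nat.mul 12 m) (show 12 * m < T by omega)]
    rfl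

theorem dt_cons (x y : ℕ) (l k : List ℕ) : dt (x :: l) (y :: k) = x * y + dt l k := rfl

theorem dt_nil : dt [] [] = 0 := rfl

theorem nr_eq (a : Fin 7 → ℕ) : (nr (ls a) : ℤ) = nrm a := by
  simp only [nrm, Fin.sum_univ_seven, nr, ls, List.map_cons, List.map_nil, dt_cons, dt_nil]
  simp [iC]
  ring

theorem ZL_ls : ∀ z ∈ ZL, ls (fun j => z.1.getD j 0) = z.1 ∧ ls (fun j => z.2.getD j 0) = z.2 ∧ z.1 ≠ z.2 := by
  decide +kernel

theorem mem_RL {r : ℕ} (h1 : r < 126) : (∃ w ∈ RL, w.1 = r) ∨ ∃ w ∈ RL, 125 - w.1 = r := by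
  have h : ∀ s, 63 ≤ s → s < 126 → ∃ w ∈ RL, w.1 = s := fun s h2 h3 =>
    List.mem_map.1 (RL_fst ▸ List.mem_range'_1.2 ⟨h2, h3⟩)
  rcases Nat.lt_or_ge r 63 with h2 | h2
  · obtain ⟨w, hw, e⟩ := h (125 - r) (by omega) (by omega)
    exact Or.inr ⟨w, hw, by omega⟩
  · exact Or.inl (h r h2 h1)

theorem sec_false {m sl : ℕ} {a : Fin 7 → ℕ} {P0 P1 : chevE7.Idx → Prop} (hm : 0 < m) (h1 : ∀ i, P1 i → il a i = m)
    (h2 : ∀ i, P0 (Sum.inl i)) (h3 : ∀ r s t, ac r = ac s + ac t → P1 r → P1 s → P0 t) (h4 : cnt P0 ≤ cnt P1 + sl)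
    (h5 : 7 ≤ cnt P1) (h6 : ∀ ζ : Fin 7 → ℤ, (∀ r : Fin chevE7.nroots, P1 (Sum.inr r) → pz r ζ = 0) → ζ = 0) :
    ¬ sec m sl (ls a) = true := by
  intro h
  have hn : ∀ w ∈ RL, ¬ Pn P1 (125 - w.1) := fun w hw e => by
    have := (Pn_neg hw a m).1 ⟨e.1, h1 _ e.2⟩
    omega
  obtain ⟨S, hS⟩ : ∃ S, S = RL.filter fun w => Pb P1 w.1 := ⟨_, rfl⟩
  have hmem : ∀ w, w ∈ S ↔ w ∈ RL ∧ Pn P1 w.1 := fun w => by rw [hS, List.mem_filter, Pb_iff]
  have hc : cnt P1 = S.length := by
    have e : RL.countP (fun w => Pb P1 (125 - w.1)) = 0 := List.countP_eq_zero.2 fun w hw e => hn w hw (Pb_iff.1 e)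
    rw [cnt_none fun i e => hm.ne (Nat.cast_injective (R := ℤ) (h1 _ e)), e, add_zero, List.countP_eq_length_filter, hS]
  have hsub : S.Sublist (RL.filter fun w => Nat.beq (dt w.2 (ls a)) m) := by
    have e : S = (RL.filter fun w => Nat.beq (dt w.2 (ls a)) m).filter fun w => Pb P1 w.1 := by
      rw [List.filter_filter, hS]
      refine List.filter_congr fun w hw => ?_
      cases e : Pb P1 w.1
      · rfl
      · have e1 := (Pn_pos hw a m).1 ⟨(Pb_iff.1 e).1, h1 _ (Pb_iff.1 e).2⟩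
        rw [Nat.cast_inj.1 e1, Nat.beq_refl]
        rfl
    rw [e]
    exact List.filter_sublist
  have hD : ∀ t ∈ RL, df S t = true → Pn P0 t.1 ∧ Pn P0 (125 - t.1) := by
    intro t ht e
    obtain ⟨r, hr, e⟩ := List.any_eq_true.1 e
    obtain ⟨s, hs, e⟩ := List.any_eq_true.1 e
    obtain ⟨hr, hr1, hr2⟩ := (hmem r).1 hr
    obtain ⟨hs, hs1, hs2⟩ := (hmem s).1 hs
    have e1 : rc r.1 = rc s.1 + rc t.1 := rc_add_of_rt (RL_lt t ht) (RL_lt s hs) (RL_lt r hr) fun j hj => by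
      rw [RL_rt r hr j hj, RL_rt s hs j hj, RL_rt t ht j hj,
        Nat.eq_of_beq_eq_true (List.all_eq_true.1 e j (List.mem_range.2 hj))]
      exact Nat.cast_add _ _
    refine ⟨⟨RL_lt t ht, h3 (Sum.inr ⟨_, hr1⟩) (Sum.inr ⟨_, hs1⟩) _ e1 hr2 hs2⟩, ⟨show 125 - t.1 < 126 by omega, h3 _ _ _ ?_ hs2 hr2⟩⟩
    show rc s.1 = rc r.1 + rc (125 - t.1)
    rw [rc_neg (RL_lt t ht), e1, add_neg_cancel_right]
  have h0 : 7 + 2 * (RL.filter fun w => Nat.beq (dt w.2 (ls a)) 0).countP (df S) ≤ cnt P0 := by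
    have e1 := (List.filter_sublist (l := RL) (p := fun w => Nat.beq (dt w.2 (ls a)) 0)).countP_le (p := df S)
    have e2 : RL.countP (df S) ≤ RL.countP fun w => Pb P0 w.1 :=
      List.countP_mono_left fun t ht e => Pb_iff.2 (hD t ht e).1
    have e3 : RL.countP (df S) ≤ RL.countP fun w => Pb P0 (125 - w.1) :=
      List.countP_mono_left fun t ht e => Pb_iff.2 (hD t ht e).2
    rw [cnt_all h2]
    omega
  have h7 := List.all_eq_true.1 h S (List.mem_sublists.2 hsub)
  rw [Bool.or_eq_true, Bool.or_eq_true] at h7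
  rcases h7 with h7 | h7 | h7
  · have := Nat.le_of_ble_eq_true h7
    omega
  · have := Nat.le_of_ble_eq_true h7
    omega
  · obtain ⟨z, hz, e⟩ := List.any_eq_true.1 h7
    obtain ⟨z1, z2, z3⟩ := ZL_ls z hz
    have e1 := h6 ((fun j : Fin 7 => ((z.1.getD j 0 : ℕ) : ℤ)) - fun j : Fin 7 => ((z.2.getD j 0 : ℕ) : ℤ)) fun r hr => by
      rcases mem_RL r.2 with ⟨w, hw, e2⟩ | ⟨w, hw, e2⟩
      · rw [← e2, pz_sub, pz_pos hw fun j => z.1.getD j 0, pz_pos hw fun j => z.2.getD j 0, z1, z2,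
          Nat.eq_of_beq_eq_true (List.all_eq_true.1 e w ((hmem w).2 ⟨hw, e2 ▸ ⟨r.2, hr⟩⟩)), sub_self]
      · exact absurd (e2 ▸ ⟨r.2, hr⟩) (hn w hw)
    refine z3 (z1.symm.trans (Eq.trans (congrArg ls (funext fun j => ?_)) z2))
    exact Nat.cast_injective (R := ℤ) (sub_eq_zero.1 (congrFun e1 j))

/-- **the finite check** -/
theorem fin : FIN := by
  intro p m a P0 P1 hp hm ha h1 h2 h3 h4 h5 h6 h7 h8 h9
  have hm0 : 0 < m := by omega
  have h := chk_leaf hm ha
  have hc : cnt P1 ≤ lv a m := by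
    rw [← cnt_pos a hm0]
    exact Nat.card_le_card_of_injective (fun i : {i // P1 i} => (⟨i.1, h4 _ i.2⟩ : {i // il a i = m}))
      fun i j e => Subtype.ext (Subtype.mk.inj e)
  have hpm : 0 < (p - 1) * m := Nat.mul_pos (by omega) hm0
  rw [cnt_neg a hpm] at h7
  rw [leaf, pp_eq hp hm0 h1 h2, Nat.ble_eq_true_of_le (show Nat.mul (Nat.sub p 2) m ≤ top a from h1),
    Nat.ble_eq_true_of_le (show top a ≤ Nat.mul (Nat.sub p 1) m from h2), dig_lv, dig_lv,
    Nat.ble_eq_true_of_le (h8.trans hc), viol_false fun d hd => by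
      rw [dig_lv, cc_eq, ← cnt_neg a hd]
      exact h3 _ (by omega), cond_true, cond_true, cond_true, cond_false] at h
  cases e : (Nat.beq (top a) (Nat.mul (Nat.sub p 2) m) && !Nat.beq (Nat.mod (nr (ls a)) p) 0)
  · rw [e] at h
    exact absurd h (sec_false hm0 h4 h5 h6 h7 h8 h9)
  · rw [Bool.and_eq_true, Bool.not_eq_true'] at e
    refine ⟨Nat.eq_of_beq_eq_true e.1, fun hd => ?_⟩
    rw [← nr_eq, Int.natCast_dvd_natCast] at hd
    have e2 : Nat.mod (nr (ls a)) p = 0 := Nat.mod_eq_zero_of_dvd hd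
    rw [e2] at e
    exact absurd e.2 (by decide)

end Cfsg.Agent.E7P.A1.Fz
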